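import Groth.Agent.Lib.FEt.DepthTwo
import Groth.Agent.Lib.EGA75.DepthFlat
import Groth.Agent.Lib.Depth.Assoc

/-!
Connectedness of the punctured spectrum of a flat local algebra with reduced closed fibre.
-/

universe u

open IsLocalRing

namespace Groth.Agent.H91.FibreDepth

theorem one_le_depth_of_reduced (F : Type u) [CommRing F] [IsLocalRing F] [IsNoetherianRing F]
    [IsReduced F] (hm : maximalIdeal F ≠ ⊥) : (1 : ℕ∞) ≤ LocCoh.depth F F := by
  rw [Order.one_le_iff_ne_zero]
  intro h0
  obtain ⟨hp, x, hx⟩ := (Lib.Depth.Assoc.depth_eq_zero_iff (R := F) (M := F)).1 h0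
  have key : ∀ c ∈ maximalIdeal F, c * x = 0 := fun c hc => by
    rw [hx] at hc
    obtain ⟨n, hn⟩ := hc
    have hn' : c ^ n * x = 0 := by simpa [Submodule.mem_colon_singleton] using hn
    have : IsNilpotent (c * x) := ⟨n + 1, by rw [mul_pow, pow_succ, pow_succ]; linear_combination c * x ^ n * hn'⟩
    exact this.eq_zero
  by_cases hu : IsUnit x
  · obtain ⟨c, hc, hc0⟩ := Submodule.exists_mem_ne_zero_of_ne_bot hm
    exact hc0 (hu.mul_left_eq_zero.1 (key c hc))
  · have hx0 : x = 0 := IsNilpotent.eq_zero (show IsNilpotent x from ⟨2, by rw [pow_two]; exact key x hu⟩)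
    refine (maximalIdeal.isMaximal F).ne_top (hx.trans ?_)
    rw [Ideal.eq_top_iff_one]
    exact ⟨1, by simp [hx0, Submodule.mem_colon_singleton]⟩

theorem maximalIdeal_ne_bot_of_dim (F : Type u) [CommRing F] [IsLocalRing F]
    (hd : (1 : WithBot ℕ∞) ≤ ringKrullDim F) : maximalIdeal F ≠ ⊥ := by
  intro h
  have hF : IsField F := IsLocalRing.isField_iff_maximalIdeal_eq.2 h
  rw [ringKrullDim_eq_zero_of_isField hF] at hd
  exact absurd hd (by decide)

theorem isConnected_punctured_domain (F : Type u) [CommRing F] [IsLocalRing F] [IsDomain F]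
    (hm : maximalIdeal F ≠ ⊥) :
    IsConnected {p : PrimeSpectrum F | p.asIdeal ≠ maximalIdeal F} := by
  let g : PrimeSpectrum F := ⟨⊥, Ideal.isPrime_bot⟩
  have hg : g.asIdeal ≠ maximalIdeal F := fun e => hm e.symm
  refine ⟨⟨g, hg⟩, ?_⟩
  intro U V hU hV _ ⟨a, ha, haU⟩ ⟨b, hb, hbV⟩
  exact ⟨g, hg, ((PrimeSpectrum.le_iff_specializes g a).1 (show g.asIdeal ≤ a.asIdeal from bot_le)).mem_open hU haU,
    ((PrimeSpectrum.le_iff_specializes g b).1 (show g.asIdeal ≤ b.asIdeal from bot_le)).mem_open hV hbV⟩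

theorem isConnected_punctured_of_quotient (B : Type u) [CommRing B] [IsLocalRing B] (I : Ideal B)
    [IsLocalRing (B ⧸ I)] (hI : I ≤ nilradical B)
    (h : IsConnected {p : PrimeSpectrum (B ⧸ I) | p.asIdeal ≠ maximalIdeal (B ⧸ I)}) :
    IsConnected {p : PrimeSpectrum B | p.asIdeal ≠ maximalIdeal B} := by
  have hs : Function.Surjective (Ideal.Quotient.mk I) := Ideal.Quotient.mk_surjective
  haveI : IsLocalHom (Ideal.Quotient.mk I) := IsLocalHom.of_surjective _ hs
  have hmax : (maximalIdeal (B ⧸ I)).comap (Ideal.Quotient.mk I) = maximalIdeal B :=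
    IsLocalRing.maximalIdeal_comap _
  have heq : {p : PrimeSpectrum B | p.asIdeal ≠ maximalIdeal B} =
      PrimeSpectrum.comap (Ideal.Quotient.mk I) ''
        {p : PrimeSpectrum (B ⧸ I) | p.asIdeal ≠ maximalIdeal (B ⧸ I)} := by
    ext p
    constructor
    · intro hp
      obtain ⟨q, hq⟩ : p ∈ Set.range (PrimeSpectrum.comap (Ideal.Quotient.mk I)) := by
        rw [range_comap_of_surjective _ _ hs]
        intro x hx
        exact nilradical_le_prime p.asIdeal (hI (Ideal.mk_ker.le hx))
      refine ⟨q, fun e => hp ?_, hq⟩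
      rw [← hq, ← hmax, ← e]
      rfl
    · rintro ⟨q, hq, rfl⟩ e
      refine hq (Ideal.comap_injective_of_surjective _ hs ?_)
      rw [hmax]
      exact e
  rw [heq]
  exact h.image _ (PrimeSpectrum.continuous_comap _).continuousOn

variable {A B : Type u} [CommRing A] [CommRing B] [IsLocalRing A] [IsLocalRing B]
  [IsNoetherianRing A] [IsNoetherianRing B] [Algebra A B] [IsLocalHom (algebraMap A B)]
  [Module.Flat A B]

/-- Hartshorne connectedness along a flat local map with reduced closed fibre of positive dimension. -/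
theorem isConnected_punctured_flat [hF : IsReduced (B ⧸ (maximalIdeal A).map (algebraMap A B))]
    (hd : (1 : WithBot ℕ∞) ≤ ringKrullDim (B ⧸ (maximalIdeal A).map (algebraMap A B)))
    (hab : maximalIdeal A ∉ minimalPrimes A ∨ IsDomain (B ⧸ (maximalIdeal A).map (algebraMap A B))) :
    IsConnected {p : PrimeSpectrum B | p.asIdeal ≠ maximalIdeal B} := by
  have hm : (maximalIdeal A).map (algebraMap A B) ≤ maximalIdeal B :=
    ((local_hom_TFAE (algebraMap A B)).out 0 2).mp ‹_›
  let N := nilradical A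
  have hN : N ≤ maximalIdeal A := nilradical_le_prime _
  let I := N.map (algebraMap A B)
  have hIn : I ≤ nilradical B := Ideal.map_le_iff_le_comap.2 fun a ha =>
    (mem_nilradical.1 ha).map (algebraMap A B)
  haveI : Nontrivial (B ⧸ I) := Ideal.Quotient.nontrivial_iff.mpr
    (ne_top_of_le_ne_top Ideal.IsPrime.ne_top' ((Ideal.map_mono hN).trans hm))
  haveI : IsLocalRing (B ⧸ I) := .of_surjective' _ Ideal.Quotient.mk_surjective
  haveI : Nontrivial (B ⧸ (maximalIdeal A).map (algebraMap A B)) := Ideal.Quotient.nontrivial_iff.mpr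
    (ne_top_of_le_ne_top Ideal.IsPrime.ne_top' hm)
  haveI : IsLocalRing (B ⧸ (maximalIdeal A).map (algebraMap A B)) :=
    .of_surjective' _ Ideal.Quotient.mk_surjective
  refine isConnected_punctured_of_quotient B I hIn ?_
  by_cases hmin : maximalIdeal A ∈ minimalPrimes A
  · have hNm : maximalIdeal A ≤ N := by
      intro a ha
      rw [mem_nilradical, nilpotent_iff_mem_prime]
      intro J hJ
      exact hmin.2 ⟨hJ, bot_le⟩ (le_maximalIdeal hJ.ne_top) ha
    have hI : I = (maximalIdeal A).map (algebraMap A B) :=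
      le_antisymm (Ideal.map_mono hN) (Ideal.map_mono hNm)
    have hdom := hab.resolve_left (not_not.2 hmin)
    let e := Ideal.quotEquivOfEq hI
    haveI : IsDomain (B ⧸ I) := e.toMulEquiv.isDomain _
    exact isConnected_punctured_domain _ (maximalIdeal_ne_bot_of_dim _
      (hd.trans_eq (ringKrullDim_eq_of_ringEquiv e).symm))
  · haveI : Nontrivial (A ⧸ N) := Ideal.Quotient.nontrivial_iff.mpr
      (ne_top_of_le_ne_top Ideal.IsPrime.ne_top' hN)
    haveI : IsLocalRing (A ⧸ N) := .of_surjective' _ Ideal.Quotient.mk_surjective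
    haveI : IsReduced (A ⧸ N) := (Ideal.isRadical_iff_quotient_reduced _).1 (Ideal.radical_isRadical ⊥)
    have hmaxA : maximalIdeal (A ⧸ N) = (maximalIdeal A).map (Ideal.Quotient.mk N) :=
      (IsLocalRing.eq_maximalIdeal (Ideal.IsMaximal.map_of_surjective_of_ker_le
        Ideal.Quotient.mk_surjective (Ideal.mk_ker.trans_le hN))).symm
    have hne : maximalIdeal (A ⧸ N) ≠ ⊥ := by
      rw [hmaxA, ne_eq, Ideal.map_eq_bot_iff_le_ker, Ideal.mk_ker]
      intro hle
      exact hmin ⟨⟨(maximalIdeal.isMaximal A).isPrime, bot_le⟩,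
        fun q hq _ => hle.trans (haveI := hq.1; nilradical_le_prime q)⟩
    haveI : Module.Flat (A ⧸ N) (B ⧸ I) := Module.Flat.of_linearEquiv
      (Algebra.TensorProduct.quotIdealMapEquivQuotTensor B N).toLinearEquiv
    let ψ := algebraMap (A ⧸ N) (B ⧸ I)
    have hcomp : ψ.comp (Ideal.Quotient.mk N) = (Ideal.Quotient.mk I).comp (algebraMap A B) := rfl
    have hψm : (maximalIdeal (A ⧸ N)).map ψ =
        ((maximalIdeal A).map (algebraMap A B)).map (Ideal.Quotient.mk I) := by
      rw [hmaxA, Ideal.map_map, Ideal.map_map, hcomp]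
    haveI : IsLocalHom (algebraMap (A ⧸ N) (B ⧸ I)) := by
      refine ((local_hom_TFAE ψ).out 0 2).mpr ?_
      rw [hψm]
      refine (Ideal.map_mono hm).trans (le_maximalIdeal ?_)
      exact (Ideal.IsMaximal.map_of_surjective_of_ker_le Ideal.Quotient.mk_surjective
        (Ideal.mk_ker.trans_le ((Ideal.map_mono hN).trans hm))).ne_top
    let e := (Ideal.quotEquivOfEq hψm).trans (DoubleQuot.quotQuotEquivQuotOfLE
      (Ideal.map_mono (f := algebraMap A B) hN))
    haveI : Nontrivial ((B ⧸ I) ⧸ (maximalIdeal (A ⧸ N)).map ψ) := e.toEquiv.nontrivial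
    haveI : IsLocalRing ((B ⧸ I) ⧸ (maximalIdeal (A ⧸ N)).map ψ) :=
      .of_surjective' _ Ideal.Quotient.mk_surjective
    refine Lib.FEt.DepthTwo.isConnected_punctured ?_
    rw [Lib.EGA75.DepthFlat.depth_eq_add (A ⧸ N) (B ⧸ I),
      Lib.FEt.DepthTwo.depth_eq_of_ringEquiv e, ← one_add_one_eq_two]
    exact add_le_add (one_le_depth_of_reduced _ hne)
      (one_le_depth_of_reduced _ (maximalIdeal_ne_bot_of_dim _ hd))

end Groth.Agent.H91.FibreDepth
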